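import Cfsg.Agent.SM.Af.Base
import Cfsg.Agent.H561.PPRed
import Cfsg.Agent.H486.HgGL
import Cfsg.Agent.SmallSimple.Embed

/-!
# SM (S3570), the overgroups of product type: the Hamming graph (helper45)
-/

set_option autoImplicit false
set_option linter.unusedSectionVars false
set_option linter.unusedVariables false

namespace Cfsg.Agent.SM.Af

open Equiv Subgroup MulAction Cfsg.Agent.H893 Finset

section model

variable {m : ℕ} {W : Type} [Group W]

open Classical in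
/-- the support -/
noncomputable def spt (f : Fin m → W) : Finset (Fin m) := univ.filter fun i => f i ≠ 1

theorem mem_spt {f : Fin m → W} {i : Fin m} : i ∈ spt f ↔ f i ≠ 1 := by simp [spt]

theorem exists_aut (hW : ∀ a b : W, a ≠ 1 → b ≠ 1 → ∃ φ : W ≃* W, φ a = b) {f g : Fin m → W} (h : (spt g).card = (spt f).card) :
    ∃ θ : (Fin m → W) ≃* (Fin m → W), θ f = g ∧ ∀ u, (spt (θ u)).card = (spt u).card := by
  obtain ⟨σ, hσ⟩ := Perm.exists_map_finset_eq _ _ h
  have h0 : ∀ i, f (σ i) ≠ 1 ↔ g i ≠ 1 := fun i => by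
    rw [← mem_spt, ← mem_spt, ← hσ]
    exact mem_map' σ.toEmbedding
  have h1 : ∀ i, ∃ φ : W ≃* W, φ (f (σ i)) = g i := fun i => by
    by_cases hi : g i = 1
    · exact ⟨.refl _, (not_iff_not.1 (h0 i)).2 hi |>.trans hi.symm⟩
    · exact hW _ _ ((h0 i).2 hi) hi
  choose φ hφ using h1
  refine ⟨(MulEquiv.arrowCongr σ.symm (.refl W)).trans (MulEquiv.piCongrRight φ), funext hφ,
    fun u => card_equiv σ fun i => ?_⟩
  rw [mem_spt, mem_spt]
  exact (φ i).map_ne_one_iff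

theorem card_wt [Finite W] (w : ℕ) : {u : Fin m → W | (spt u).card = w}.ncard = m.choose w * (Nat.card W - 1) ^ w := by
  classical
  have := Fintype.ofFinite W
  rw [Set.ncard_eq_toFinset_card', card_eq_sum_card_fiberwise (f := spt) (t := powersetCard w univ) fun u hu => by
    simpa using hu, sum_const_nat (m := (Nat.card W - 1) ^ w), card_powersetCard, card_fin]
  intro A hA
  have h1 := (mem_powersetCard.1 hA).2
  rw [show filter (fun u => spt u = A) {u : Fin m → W | (spt u).card = w}.toFinset =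
    Fintype.piFinset fun i => if i ∈ A then univ.erase 1 else {1} from ?_, Fintype.card_piFinset]
  · simp [apply_ite card, h1, card_erase_of_mem]
  · ext u
    simp only [mem_filter, Set.mem_toFinset, Set.mem_ofPred_eq, Fintype.mem_piFinset]
    refine ⟨fun h i => ?_, fun h => ?_⟩
    · rw [← h.2]
      split_ifs with hi <;> simpa [mem_spt] using hi
    · have h2 : spt u = A := ext fun i => by
        have := h i
        rw [mem_spt]
        split_ifs at this with hi <;> simpa [hi] using this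
      exact ⟨h2 ▸ h1, h2⟩

end model

theorem le_choose : ∀ {m w : ℕ}, 1 ≤ w → w < m → m ≤ m.choose w
  | m + 1, w + 1, _, h => by
    rcases Nat.eq_zero_or_pos w with rfl | h1
    · simp
    · have h2 := le_choose h1 (show w < m by omega)
      have h3 := Nat.choose_pos (show w + 1 ≤ m by omega)
      rw [Nat.choose_succ_succ']
      omega

theorem wt_num {m a w x : ℕ} (ha : 4 ≤ a) (h2 : 2 ≤ w) (hw : w ≤ m) (h : m.choose w * a ^ w ≤ 2 * x) (hx : x ≤ m * a) :
    w = m ∧ m * a ≤ x := by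
  obtain ⟨w, rfl⟩ : ∃ k, w = k + 2 := ⟨w - 2, by omega⟩
  have h1 : 2 * (w + 2) ≤ a ^ (w + 1) := by
    clear * - ha
    induction w with
    | zero => simpa using ha
    | succ w ih => rw [pow_succ]; nlinarith
  rw [pow_succ] at h
  rcases hw.eq_or_lt with rfl | hw
  · rw [Nat.choose_self] at h
    exact ⟨rfl, by nlinarith⟩
  · have h3 := Nat.mul_le_mul (le_choose (by omega) hw) (Nat.mul_le_mul_right a h1)
    have : 0 < m * a := Nat.mul_pos (by omega) (by omega)
    nlinarith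

variable {Ω : Type} [Fintype Ω] [DecidableEq Ω] {X H M V : Subgroup (Perm Ω)} {p d : ℕ}

/-- the automorphism group of a relation -/
def au (R : Ω → Ω → Prop) : Subgroup (Perm Ω) where
  carrier := {g | ∀ x y, R (g x) (g y) ↔ R x y}
  one_mem' _ _ := Iff.rfl
  mul_mem' ha hb _ _ := (ha _ _).trans (hb _ _)
  inv_mem' {g} h x y := by simpa using (h (g⁻¹ x) (g⁻¹ y)).symm

/-- the Cayley graph -/
def rl (V : Subgroup (Perm Ω)) (α : Ω) (D : Set Ω) (x y : Ω) : Prop := ∃ v ∈ V, ∃ z ∈ D, v α = x ∧ v z = y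

/-- `D` is the set of the neighbours of `α` in a Hamming graph -/
structure Ham (V : Subgroup (Perm Ω)) (α : Ω) (D : Set Ω) (m a : ℕ) (wt : Ω → ℕ) : Prop where
  two : 2 ≤ m
  four : 4 ≤ a
  mem : ∀ y, y ∈ D ↔ wt y = 1
  le : ∀ y, wt y ≤ m
  zero : ∀ y, wt y = 0 ↔ y = α
  card : ∀ w, {y | wt y = w}.ncard = m.choose w * a ^ w
  aut : ∀ y z, wt y = wt z → ∃ g ∈ au (rl V α D) ⊓ normalizer (V : Set (Perm Ω)), g α = α ∧ g y = z

theorem Rg.rl_iff (r : Rg H V p d) {α : Ω} {D : Set Ω} {v : Perm Ω} (hv : v ∈ V) (z : Ω) : rl V α D (v α) (v z) ↔ z ∈ D :=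
  ⟨fun ⟨u, hu, y, hy, e1, e2⟩ => by
    obtain rfl : v = u := inv_mul_eq_one.1 (r.reg _ (V.mul_mem (V.inv_mem hv) hu) α (by
      rw [Perm.mul_apply, e1]; exact v.symm_apply_apply α))
    exact v.injective e2 ▸ hy, fun h => ⟨v, hv, z, h, rfl, rfl⟩⟩

theorem Rg.ham (r : Rg H V p d) (α : Ω) {m : ℕ} {W : Type} [Group W] [Finite W] (ψ : V ≃* (Fin m → W)) (hm : 2 ≤ m)
    (h5 : 5 ≤ Nat.card W) (hW : ∀ a b : W, a ≠ 1 → b ≠ 1 → ∃ φ : W ≃* W, φ a = b) {D : Set Ω}
    (hD : ∀ v : V, v.1 α ∈ D ↔ (spt (ψ v)).card = 1) : ∃ wt, Ham V α D m (Nat.card W - 1) wt := by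
  let β : (Fin m → W) ≃ Ω := Equiv.ofBijective (fun u => (ψ.symm u).1 α) ⟨fun u u' h => ψ.symm.injective
    (Subtype.ext (inv_mul_eq_one.1 (r.reg _ (V.mul_mem (V.inv_mem (ψ.symm u).2) (ψ.symm u').2) α (by
      rw [Perm.mul_apply, Perm.inv_eq_iff_eq]; exact h.symm)))), fun y => by
    obtain ⟨v, hv, e⟩ := r.trans α y
    exact ⟨ψ ⟨v, hv⟩, by simpa using e⟩⟩
  have h1 : ∀ u u', (ψ.symm u).1 (β u') = β (u * u') := fun u u' => by
    show _ = (ψ.symm (u * u')).1 α
    rw [map_mul]; rfl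
  have h2 : β 1 = α := by
    show (ψ.symm 1).1 α = α
    rw [map_one]; rfl
  have h3 : ∀ u, β u ∈ D ↔ (spt u).card = 1 := fun u => (hD _).trans (by rw [ψ.apply_symm_apply])
  have h4 : ∀ u u', rl V α D (β u) (β u') ↔ (spt (u⁻¹ * u')).card = 1 := fun u u' => by
    rw [← h3, ← r.rl_iff (α := α) (ψ.symm u).2, h1, mul_inv_cancel_left]; rfl
  refine ⟨fun y => (spt (β.symm y)).card, hm, by omega, fun y => by rw [← h3, β.apply_symm_apply],
    fun y => (card_le_univ _).trans (Fintype.card_fin m).le, fun y => ?_, fun w => ?_, fun y z h => ?_⟩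
  · rw [card_eq_zero, ← h2, ← β.symm_apply_eq, eq_empty_iff_forall_notMem, funext_iff]
    simp [mem_spt]
  · rw [← card_wt, ← Set.ncard_image_of_injective _ β.symm.injective]
    congr 1
    ext u
    simp
  · obtain ⟨θ, h6, h7⟩ := exists_aut hW h.symm
    have h8 : ∀ u, β.permCongr θ.toEquiv (β u) = β (θ u) := fun u => by simp
    refine ⟨β.permCongr θ.toEquiv, ⟨fun x x' => ?_, mem_normalizer_fintype fun v hv => ?_⟩, by rw [← h2, h8, map_one],
      by rw [← β.apply_symm_apply y, h8, h6, β.apply_symm_apply]⟩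
    · obtain ⟨u, rfl⟩ := β.surjective x
      obtain ⟨u', rfl⟩ := β.surjective x'
      rw [h8, h8, h4, h4, ← map_inv, ← map_mul, h7]
    · suffices h9 : β.permCongr θ.toEquiv * v = (ψ.symm (θ (ψ ⟨v, hv⟩))).1 * β.permCongr θ.toEquiv by
        rw [h9, mul_inv_cancel_right]
        exact (ψ.symm (θ (ψ ⟨v, hv⟩))).2
      ext x
      obtain ⟨u, rfl⟩ := β.surjective x
      rw [Perm.mul_apply, Perm.mul_apply, h8, h1, ← map_mul, ← h8, ← h1, ψ.symm_apply_apply]

theorem gal_trans (p j : ℕ) [Fact p.Prime] (a b : Multiplicative (GaloisField p j)) (ha : a ≠ 1) (hb : b ≠ 1) :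
    ∃ φ : Multiplicative (GaloisField p j) ≃* Multiplicative (GaloisField p j), φ a = b :=
  ⟨AddEquiv.toMultiplicative (DistribMulAction.toAddEquiv _ (Units.mk0 (b.toAdd / a.toAdd) (div_ne_zero hb ha))),
    congrArg Multiplicative.ofAdd (div_mul_cancel₀ b.toAdd ha)⟩

/-- **the Hamming graph of an overgroup of product type** -/
theorem Rg.prod_ham (r : Rg H V p d) (hM : H ≤ M) (h : Prod M V) (α : Ω) :
    2 ≤ d ∧ ∃ D m a wt, M ≤ au (rl V α D) ∧ Ham V α D m a wt := by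
  classical
  obtain ⟨N, _, m, T, e, hm, hF, h0, hV, key⟩ := h
  have : Fact p.Prime := ⟨r.prime⟩
  have hp := prim_of_le hM r.prim
  have hc : Nat.card Ω = p ^ d := Nat.card_eq_fintype_card.trans r.card
  have : IsMulCommutative V := ⟨⟨fun a b => Subtype.ext (r.comm _ a.2 _ b.2)⟩⟩
  let B : ∀ i, Subgroup (T i) := fun i => (stabilizer M α).subgroupOf (T i)
  obtain ⟨j, hj, hjm, hB⟩ : ∃ j, 1 ≤ j ∧ j * m = d ∧ ∀ i, (B i).index = p ^ j := by
    choose j h1 h2 using (H561.PPow.prod_form r.prime r.pos hc hp h0 hF).2 α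
    have h3 := fun i => H561.PPow.index_eq r.prime r.pos hc hp h0 hF α i _ (h2 i)
    exact ⟨j ⟨0, hF.pos⟩, h1 _, h3 _, fun i => by
      rw [← Nat.eq_of_mul_eq_mul_right hF.pos ((h3 i).trans (h3 ⟨0, hF.pos⟩).symm)]; exact h2 i⟩
  have h5 : 5 ≤ p ^ j := by
    have := hF.simple ⟨0, hF.pos⟩
    obtain ⟨a, b, hab⟩ := hF.nonab ⟨0, hF.pos⟩
    refine hB ⟨0, hF.pos⟩ ▸ SmallSimple.Embed.five_le_index (fun h => hab (h.is_comm.comm a b)) _ fun h => ?_
    exact (Nat.one_lt_pow (by omega) r.prime.one_lt).ne' ((hB _).symm.trans (index_eq_one.2 h))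
  let ι : V →* N :=
    { toFun v := ⟨⟨v, map_subtype_le N (hV v.2)⟩, by
        obtain ⟨n, hn, e⟩ := hV v.2
        exact (Subtype.ext e : n = ⟨v, _⟩) ▸ hn⟩
      map_one' := rfl
      map_mul' _ _ := rfl }
  let U : Fin m → Subgroup V := fun i => (B i).comap ((Pi.evalMonoidHom _ i).comp (e.toMonoidHom.comp ι))
  have hU : ∀ v i, v ∈ U i ↔ ((e (ι v) i : T i) : M) ∈ stabilizer M α := fun _ _ => Iff.rfl
  have h1 : ∀ (v : V) i (t : T i), t.1.1 α = v.1 α ↔ ∀ l, ((((Pi.mulSingle i t : ∀ l, T l) l)⁻¹ * e (ι v) l : T l) : M) ∈ stabilizer M α :=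
    fun v i t => by
      have h1 := key α ((e.symm (Pi.mulSingle i t))⁻¹ * ι v)
      rw [map_mul, map_inv, e.apply_symm_apply, Subgroup.coe_mul, Subgroup.coe_inv, hF.single, mem_stabilizer_iff, mul_smul,
        inv_smul_eq_iff] at h1
      exact eq_comm.trans h1
  let ψ₀ : V →* ∀ i, V ⧸ U i := MonoidHom.pi fun i => QuotientGroup.mk' (U i)
  have h2 : Function.Injective ψ₀ := (injective_iff_map_eq_one _).2 fun v hv => Subtype.ext (r.reg _ v.2 α
    ((key α (ι v)).2 fun i => (QuotientGroup.eq_one_iff v).1 (congrFun hv i)))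
  have h3 : ∀ i, (U i).index ≤ p ^ j := fun i => by
    rw [index_comap, ← hB i, ← relIndex_top_right]
    exact relIndex_le_of_le_right le_top index_ne_zero_of_finite
  have h4 : ∀ i, Nat.card (V ⧸ U i) = p ^ j := by
    by_contra! h
    obtain ⟨i, hi⟩ := h
    have h4 := Nat.card_le_card_of_injective _ h2
    rw [Nat.card_pi, r.cardV, ← hjm, pow_mul] at h4
    refine h4.not_gt ((prod_lt_prod (g := fun _ => p ^ j) (fun i _ => Nat.card_pos) (fun i _ => h3 i)
      ⟨i, mem_univ _, (h3 i).lt_of_ne hi⟩).trans_eq (by simp))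
  have h6 : Nat.card (Multiplicative (GaloisField p j)) = p ^ j := GaloisField.card p j (by omega)
  obtain ⟨ε⟩ := H486.Hg.exists_equiv (A := Multiplicative (GaloisField p j)) (p := p) mul_comm
    (fun x => congrArg Multiplicative.ofAdd (by simp : p • x.toAdd = 0)) h6
  have h7 : ∀ i, Nonempty ((V ⧸ U i) ≃* Multiplicative (GaloisField p j)) := fun i =>
    (H486.Hg.exists_equiv (p := p) (fun x y => by
      obtain ⟨x, rfl⟩ := QuotientGroup.mk_surjective x
      obtain ⟨y, rfl⟩ := QuotientGroup.mk_surjective y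
      exact congrArg QuotientGroup.mk (this.is_comm.comm x y)) (fun x => by
      obtain ⟨x, rfl⟩ := QuotientGroup.mk_surjective x
      exact congrArg QuotientGroup.mk (Subtype.ext (r.pow _ x.2) : x ^ p = 1)) (h4 i)).map (·.trans ε.symm)
  let ψ := (MulEquiv.ofBijective ψ₀ ((Nat.bijective_iff_injective_and_card _).2 ⟨h2, by
    rw [Nat.card_pi, r.cardV, ← hjm, pow_mul, prod_congr rfl fun i _ => h4 i]; simp⟩)).trans (MulEquiv.piCongrRight fun i => (h7 i).some)
  have h8 : ∀ v i, i ∈ spt (ψ v) ↔ v ∉ U i := fun v i =>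
    mem_spt.trans (((h7 i).some.map_ne_one_iff).trans (QuotientGroup.eq_one_iff v).not)
  let R : Ω → Ω → Prop := fun x y => x ≠ y ∧ ∃ i, ∃ t ∈ T i, t.1 x = y
  have hR : ∀ g ∈ M, ∀ x y, R x y → R (g x) (g y) := by
    rintro g hg x _ ⟨h, i, t, ht, rfl⟩
    obtain ⟨l, hl⟩ := hF.conj ⟨g, hg⟩ i
    exact ⟨g.injective.ne h, l, ⟨g, hg⟩ * t * ⟨g, hg⟩⁻¹, hl ▸ ⟨t, ht, rfl⟩, by simp⟩
  have hVM : V ≤ M := r.le.trans hM
  have h9 : rl V α {y | R α y} = R := funext₂ fun x y => propext ⟨by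
    rintro ⟨v, hv, z, hz, rfl, rfl⟩
    exact hR v (hVM hv) _ _ hz, fun h => by
    obtain ⟨v, hv, rfl⟩ := r.trans α x
    exact ⟨v, hv, v⁻¹ y, by simpa using hR v⁻¹ (M.inv_mem (hVM hv)) _ _ h, rfl, by simp⟩⟩
  obtain ⟨wt, hw⟩ := r.ham α ψ hm (h6 ▸ h5) (gal_trans p j) (D := {y | R α y}) fun v => ⟨by
    rintro ⟨h, i, t, ht, e⟩
    refine card_eq_one.2 ⟨i, (subset_singleton_iff.1 fun l hl => mem_singleton.2 (by_contra fun hl' => (h8 v l).1 hl ?_)).resolve_left
      fun h' => h ((key α (ι v)).2 fun l => by_contra fun hl => notMem_empty l (h' ▸ (h8 v l).2 hl)).symm⟩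
    simpa [hU, Pi.mulSingle_eq_of_ne hl'] using (h1 v i ⟨t, ht⟩).1 e l, fun h => by
    obtain ⟨i, hi⟩ := card_eq_one.1 h
    refine ⟨fun h' => (h8 v i).1 (hi ▸ mem_singleton_self i) ((key α (ι v)).1 h'.symm i), i, _, (e (ι v) i).2,
      (h1 v i _).2 fun l => ?_⟩
    rcases eq_or_ne l i with rfl | hl
    · simp [one_mem]
    · simpa [hU, Pi.mulSingle_eq_of_ne hl] using not_not.1 fun h' => hl (mem_singleton.1 (hi ▸ (h8 v l).2 h'))⟩
  refine ⟨by nlinarith, _, _, _, wt, fun g hg x y => ?_, hw⟩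
  rw [h9]
  exact ⟨fun h => by simpa using hR g⁻¹ (M.inv_mem hg) _ _ h, hR g hg x y⟩

end Cfsg.Agent.SM.Af
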