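import Cfsg.Agent.SM.Af.Simple
import Cfsg.Agent.SM.Af.Ham

/-!
# SM (S3570): the box `BoxAff` (helper45)
-/

set_option autoImplicit false
set_option linter.unusedSectionVars false
set_option linter.unusedVariables false

namespace Cfsg.Agent.SM.Af

open Equiv Subgroup MulAction

variable {Ω : Type} [Fintype Ω] [DecidableEq Ω] {X H M V : Subgroup (Perm Ω)} {p d m a : ℕ} {α : Ω} {D : Set Ω} {wt : Ω → ℕ}

theorem Ham.exists_wt (h : Ham V α D m a wt) {w : ℕ} (hw : w ≤ m) : ∃ y, wt y = w :=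
  Set.nonempty_of_ncard_ne_zero (s := {y | wt y = w}) (by
    rw [h.card]
    exact (Nat.mul_pos (Nat.choose_pos hw) (pow_pos (by have := h.four; omega) _)).ne')

theorem Ham.ncard (h : Ham V α D m a wt) : D.ncard = m * a := by
  rw [show D = {y | wt y = 1} from Set.ext h.mem, h.card, Nat.choose_one_right, pow_one]

theorem Rg.rl_self (r : Rg H V p d) (y : Ω) : rl V α D α y ↔ y ∈ D := r.rl_iff V.one_mem y

theorem Rg.eq_au (r : Rg H V p d) (s : Sec X H) (hM : M ∈ Ov X H) (h1 : M ≤ au (rl V α D)) (h : Ham V α D m a wt) :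
    M = X ⊓ au (rl V α D) := s.eq_inf hM h1 fun h2 => by
  obtain ⟨y, hy⟩ := h.exists_wt (w := 1) (by have := h.two; omega)
  obtain ⟨z, hz⟩ := h.exists_wt h.two
  have := alternatingGroup.isMultiplyPretransitive Ω
  obtain ⟨g, e1, e2⟩ := is_two_pretransitive_iff.1 (isMultiplyPretransitive_of_le (G := alternatingGroup Ω) (α := Ω) (m := 2)
    (n := Nat.card Ω - 2) (by have := s.five; rw [Nat.card_eq_fintype_card]; omega) (Nat.sub_le _ _))
    (show α ≠ y from fun e => by have := (h.zero y).2 e.symm; omega) (show α ≠ z from fun e => by have := (h.zero z).2 e.symm; omega)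
  have h3 := h2 g.2 α y
  rw [show g.1 α = α from e1, show g.1 y = z from e2, r.rl_self, r.rl_self, h.mem, h.mem] at h3
  omega

/-- the orbits of the point stabiliser -/
theorem Rg.split (r : Rg H V p d) (s : Sec X H) (hM : M ∈ Ov X H) (hn : ¬ Nor M V) (h1 : M ≤ au (rl V α D))
    (h : Ham V α D m a wt) : ∃ g : Perm Ω, ∀ y z, wt y = wt z →
      z ∈ orbit ↥(H ⊓ stabilizer (Perm Ω) α) y ∨ (z ∈ orbit ↥(H ⊓ stabilizer (Perm Ω) α) (g y) ∧
        z ∈ g '' orbit ↥(H ⊓ stabilizer (Perm Ω) α) y) := by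
  have h2 : ∀ g ∈ au (rl V α D) ⊓ normalizer (V : Set (Perm Ω)) ⊓ stabilizer (Perm Ω) α, g ∈ X →
      g ∈ H ⊓ stabilizer (Perm Ω) α := fun g hg hX => ⟨by
    rw [r.eq_inf s hM hn, r.eq_au s hM h1 h]
    exact ⟨⟨hX, hg.1.1⟩, hg.1.2⟩, hg.2⟩
  by_cases h3 : ∃ g ∈ au (rl V α D) ⊓ normalizer (V : Set (Perm Ω)) ⊓ stabilizer (Perm Ω) α, g ∉ X
  · obtain ⟨g₀, h3, h4⟩ := h3
    refine ⟨g₀, fun y z e => ?_⟩
    obtain ⟨g, h5, h6, rfl⟩ := h.aut y z e
    have h7 : g ∈ au (rl V α D) ⊓ normalizer (V : Set (Perm Ω)) ⊓ stabilizer (Perm Ω) α := ⟨h5, h6⟩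
    by_cases hg : g ∈ X
    · exact .inl ⟨⟨g, h2 g h7 hg⟩, rfl⟩
    have h8 : ∀ u, u ∉ X → Perm.sign u = -1 := fun u hu =>
      (Int.units_eq_one_or _).resolve_left fun e => hu (s.alt (Perm.mem_alternatingGroup.2 e))
    exact .inr ⟨⟨⟨g * g₀⁻¹, h2 _ (mul_mem h7 (inv_mem h3)) (s.alt (by simp [Perm.mem_alternatingGroup, h8 _ hg, h8 _ h4]))⟩,
      show (g * g₀⁻¹) (g₀ y) = _ by simp⟩, _, ⟨⟨g₀⁻¹ * g, h2 _ (mul_mem (inv_mem h3) h7)
        (s.alt (by simp [Perm.mem_alternatingGroup, h8 _ hg, h8 _ h4]))⟩, rfl⟩, show g₀ ((g₀⁻¹ * g) y) = _ by simp⟩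
  · refine ⟨1, fun y z e => ?_⟩
    obtain ⟨g, h5, h6, rfl⟩ := h.aut y z e
    exact .inl ⟨⟨g, h2 g ⟨h5, h6⟩ (by_contra fun hg => h3 ⟨g, ⟨h5, h6⟩, hg⟩)⟩, rfl⟩

/-- **at most six overgroups of product type** -/
theorem Rg.prod_count (r : Rg H V p d) (s : Sec X H) : {M | M ∈ Ov X H ∧ ¬ Nor M V ∧ Prod M V}.ncard ≤ 6 := by
  obtain ⟨α⟩ := r.nonempty
  rcases Set.eq_empty_or_nonempty {D | ∃ M ∈ Ov X H, ¬ Nor M V ∧ ∃ m a wt, M ≤ au (rl V α D) ∧ Ham V α D m a wt} with h | h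
  · refine ((Set.ncard_eq_zero (Set.toFinite _)).2 (Set.eq_empty_of_forall_notMem ?_)).trans_le (Nat.zero_le _)
    rintro M ⟨hM, hn, hp⟩
    obtain ⟨-, D, h1⟩ := r.prod_ham hM.2 hp α
    exact Set.eq_empty_iff_forall_notMem.1 h D ⟨M, hM, hn, h1⟩
  obtain ⟨D, ⟨M₀, hM₀, hn₀, m, a, wt, h1, h2⟩, h3⟩ := Set.exists_max_image _ Set.ncard (Set.toFinite _) h
  obtain ⟨g, hg⟩ := r.split s hM₀ hn₀ h1 h2
  obtain ⟨x, hx⟩ := h2.exists_wt (w := 1) (by have := h2.two; omega)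
  obtain ⟨y, hy⟩ := h2.exists_wt le_rfl
  set L := H ⊓ stabilizer (Perm Ω) α
  let F : Prop × Prop ⊕ Bool → Set Ω := Sum.elim (fun b => {z | (b.1 ∧ z ∈ orbit L x) ∨ (b.2 ∧ z ∈ orbit L (g x))})
    fun b => bif b then orbit L y else orbit L (g y)
  refine (Set.ncard_le_ncard (t := Set.range fun i => X ⊓ au (rl V α (F i))) ?_).trans
    ((Finite.card_range_le _).trans (by simp))
  rintro M ⟨hM, hn, hp⟩
  obtain ⟨-, D', m', a', wt', h4, h5⟩ := r.prod_ham hM.2 hp α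
  suffices h6 : ∃ i, F i = D' from h6.imp fun i hi => by
    show X ⊓ au (rl V α (F i)) = M
    rw [hi, ← r.eq_au s hM h4 h5]
  have h6 : ∀ u ∈ D', orbit L u ⊆ D' := by
    rintro u hu _ ⟨k, rfl⟩
    have h6 := h4 (hM.2 k.2.1) α u
    rw [show k.1 α = α from k.2.2, r.rl_self, r.rl_self] at h6
    exact h6.2 hu
  by_cases h7 : D' ⊆ D
  · refine ⟨.inl (x ∈ D', g x ∈ D'), Set.ext fun z => ⟨fun h => h.elim (fun h => h6 _ h.1 h.2) fun h => h6 _ h.1 h.2, fun h => ?_⟩⟩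
    exact (hg x z (hx.trans ((h2.mem z).1 (h7 h)).symm)).imp (fun e => ⟨h6 _ h (mem_orbit_symm.1 e), e⟩)
      fun e => ⟨h6 _ h (mem_orbit_symm.1 e.1), e.1⟩
  obtain ⟨u, hu, hu'⟩ := Set.not_subset.1 h7
  have h8 : wt u ≠ 0 := fun e => by
    have h8 := (h5.zero u).2 ((h2.zero u).1 e)
    have h9 := (h5.mem u).1 hu
    omega
  have h9 := (h3 D' ⟨M, hM, hn, _, _, _, h4, h5⟩).trans h2.ncard.le
  obtain ⟨h10, h11⟩ := wt_num (x := (orbit L u).ncard) h2.four (show 2 ≤ wt u by have := (h2.mem u).not.1 hu'; omega) (h2.le u) (by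
    rw [← h2.card, two_mul]
    exact (Set.ncard_le_ncard fun z hz => (hg u z (Eq.symm hz)).imp_right And.right).trans ((Set.ncard_union_le _ _).trans
      (by rw [Set.ncard_image_of_injective _ g.injective]))) ((Set.ncard_le_ncard (h6 u hu)).trans h9)
  rw [← Set.eq_of_subset_of_ncard_le (h6 u hu) (h9.trans h11)]
  exact (hg y u (hy.trans h10.symm)).elim (fun e => ⟨.inr true, (orbit_eq_iff.2 e).symm⟩)
    fun e => ⟨.inr false, (orbit_eq_iff.2 e.1).symm⟩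

/-- **the box `BoxAff`** -/
theorem boxAff : BoxAff := fun Ω _ _ X H V s hp hV => by
  obtain ⟨p, d, r⟩ := exists_rg hp hV
  have h1 : {M | M ∈ Ov X H ∧ Nor M V}.ncard ≤ 1 := (Set.ncard_le_one (Set.toFinite _)).2 fun M hM M' hM' =>
    s.eq_of_nor hM.1 hM'.1 hM.2 hM'.2 r.ne
  obtain ⟨α⟩ := r.nonempty
  rcases r.pos.eq_or_lt with rfl | hd
  · refine (Set.ncard_le_ncard fun M hM => ?_).trans ((Set.ncard_union_le _ _).trans (add_le_add h1 (r.prime_count s)))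
    rcases r.cases hM.2 with h | h | h
    · exact .inl ⟨hM, h⟩
    · exact .inr ⟨hM, h⟩
    · exact absurd (r.prod_ham hM.2 h α).1 (by omega)
  · refine (Set.ncard_le_ncard fun M hM => ?_).trans ((Set.ncard_union_le _ _).trans
      ((add_le_add h1 (r.prod_count s)).trans (by omega)))
    by_cases hn : Nor M V
    · exact .inl ⟨hM, hn⟩
    rcases r.cases hM.2 with h | ⟨S, h, h'⟩ | h
    · exact absurd h hn
    · exact (r.no_soc hd s hM h h').elim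
    · exact .inr ⟨hM, hn, h⟩

end Cfsg.Agent.SM.Af
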