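import Cfsg.Agent.SM.Base
import Cfsg.Agent.H893.PPow

/-!
# SM (S3570), `H` primitive and affine: the regular subgroup and the three kinds of overgroups (helper45)
-/

set_option autoImplicit false
set_option linter.unusedSectionVars false
set_option linter.unusedVariables false

namespace Cfsg.Agent.SM.Af

open Equiv Subgroup MulAction Cfsg.Agent.H893

variable {Ω : Type} [Fintype Ω] [DecidableEq Ω] {X H M N V : Subgroup (Perm Ω)}

theorem trans_of_nor (hp : IsPreprimitive M Ω) (hN : Nor M N) (h0 : N ≠ ⊥) (x y : Ω) : ∃ n ∈ N, n x = y := by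
  have := hN.normal
  have h1 : N.subgroupOf M ≠ ⊥ := fun h => h0 (by
    rw [subgroupOf_eq_bot, disjoint_iff, inf_eq_left.2 hN.le] at h
    exact h)
  obtain ⟨n, hn⟩ := (prim_normal hp (N.subgroupOf M) h1).1.exists_smul_eq x y
  exact ⟨_, n.2, hn⟩

/-- `V` is a regular elementary abelian normal subgroup of the primitive group `H` -/
structure Rg (H V : Subgroup (Perm Ω)) (p d : ℕ) : Prop extends Aff H V where
  prim : IsPreprimitive H Ω
  prime : p.Prime
  pos : 1 ≤ d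
  card : Fintype.card Ω = p ^ d
  cardV : Nat.card V = p ^ d
  pow : ∀ v ∈ V, v ^ p = 1
  trans : ∀ x y, ∃ v ∈ V, v x = y
  reg : ∀ v ∈ V, ∀ x, v x = x → v = 1

theorem reg_of {A : Subgroup (Perm Ω)} (ht : ∀ x y, ∃ v ∈ A, v x = y) {g : Perm Ω} (hc : ∀ v ∈ A, g * v = v * g) {x : Ω}
    (h : g x = x) : g = 1 := Equiv.ext fun y => by
  obtain ⟨v, hv, rfl⟩ := ht x y
  rw [← Perm.mul_apply, hc v hv, Perm.mul_apply, h, Perm.one_apply]

theorem card_eq (ht : ∀ x y, ∃ v ∈ V, v x = y) (hr : ∀ v ∈ V, ∀ x, v x = x → v = 1) (x : Ω) : Nat.card V = Fintype.card Ω := by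
  rw [← Nat.card_eq_fintype_card]
  refine Nat.card_congr (Equiv.ofBijective (fun v => v.1 x) ⟨fun v w h => ?_, fun y => ?_⟩)
  · exact Subtype.ext (inv_mul_eq_one.1 (hr _ (V.mul_mem (V.inv_mem v.2) w.2) x (by
      rw [Perm.mul_apply, Perm.inv_eq_iff_eq]; exact h.symm)))
  · obtain ⟨v, hv, e⟩ := ht x y
    exact ⟨⟨v, hv⟩, e⟩

theorem le_of_trans {A : Subgroup (Perm Ω)} (hA : A ≤ V) (ht : ∀ x y, ∃ v ∈ A, v x = y) (hr : ∀ v ∈ V, ∀ x, v x = x → v = 1)
    (x : Ω) : V ≤ A := fun v hv => by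
  obtain ⟨a, ha, e⟩ := ht x (v x)
  rwa [← inv_mul_eq_one.1 (hr _ (V.mul_mem (V.inv_mem (hA ha)) hv) x (by rw [Perm.mul_apply, ← e]; exact a.symm_apply_apply x))]

theorem exists_rg (hp : IsPreprimitive H Ω) (hV : Aff H V) : ∃ p d, Rg H V p d := by
  have ht := trans_of_nor hp hV.toNor hV.ne
  have hr : ∀ v ∈ V, ∀ x, v x = x → v = 1 := fun v hv x => reg_of ht fun w hw => hV.comm v hv w hw
  have : Nontrivial V := (Subgroup.nontrivial_iff_ne_bot V).2 hV.ne
  obtain ⟨p, hpp, hd⟩ := Nat.exists_prime_and_dvd (Finite.one_lt_card (α := V)).ne'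
  have : Fact p.Prime := ⟨hpp⟩
  obtain ⟨u, hu⟩ := exists_prime_orderOf_dvd_card' p hd
  obtain ⟨x, -⟩ : ∃ x, u.1 x ≠ x := by
    by_contra! h
    rw [show u = 1 from Subtype.ext (Equiv.ext h), orderOf_one] at hu
    exact hpp.one_lt.ne hu
  let A : Subgroup (Perm Ω) :=
    { carrier := {v | v ∈ V ∧ v ^ p = 1}
      one_mem' := ⟨V.one_mem, one_pow p⟩
      mul_mem' := fun {a b} ha hb => ⟨V.mul_mem ha.1 hb.1, by
        rw [Commute.mul_pow (hV.comm a ha.1 b hb.1), ha.2, hb.2, one_mul]⟩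
      inv_mem' := fun {a} ha => ⟨V.inv_mem ha.1, by rw [inv_pow, ha.2, inv_one]⟩ }
  have h1 : V ≤ A := le_of_trans (fun _ h => h.1) (trans_of_nor hp
    ⟨fun _ h => hV.le h.1, fun g hg v hv => ⟨hV.conj g hg v hv.1, by rw [conj_pow, hv.2, mul_one, mul_inv_cancel]⟩⟩
    fun h => by
      have h2 : u.1 ∈ A := ⟨u.2, by rw [← hu, ← Subgroup.coe_pow, pow_orderOf_eq_one, Subgroup.coe_one]⟩
      rw [h, mem_bot] at h2
      rw [show u = 1 from Subtype.ext h2, orderOf_one] at hu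
      exact hpp.one_lt.ne hu) hr x
  have h2 : IsPGroup p V := fun v => ⟨1, Subtype.ext (by rw [pow_one]; exact (h1 v.2).2)⟩
  obtain ⟨d, hd'⟩ := IsPGroup.iff_card.1 h2
  refine ⟨p, d, hV, hp, hpp, Nat.pos_of_ne_zero ?_, (card_eq ht hr x).symm.trans hd', hd', fun v hv => (h1 hv).2, ht, hr⟩
  rintro rfl
  exact (Finite.one_lt_card (α := V)).ne' hd'

namespace Rg

variable {p d : ℕ} (r : Rg H V p d)
include r

theorem nonempty : Nonempty Ω := Fintype.card_pos_iff.1 (r.card ▸ pow_pos r.prime.pos d)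

/-- `V` is its own centraliser -/
theorem cen {g : Perm Ω} (hg : ∀ v ∈ V, g * v = v * g) : g ∈ V := by
  obtain ⟨x⟩ := r.nonempty
  obtain ⟨v, hv, e⟩ := r.trans x (g x)
  have h := reg_of r.trans (g := v⁻¹ * g) (x := x) (fun w hw => by
    rw [mul_assoc, hg w hw, ← mul_assoc, ← mul_assoc, r.comm _ (V.inv_mem hv) w hw]) (by
      rw [Perm.mul_apply, ← e]; exact v.symm_apply_apply x)
  rwa [← inv_mul_eq_one.1 h]

theorem pgroup : IsPGroup p V := IsPGroup.of_card r.cardV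

/-- every non-trivial normal subgroup of an overgroup contains `V` -/
theorem le_nor (hM : H ≤ M) (hN : Nor M N) (h0 : N ≠ ⊥) : V ≤ N := by
  obtain ⟨x⟩ := r.nonempty
  have : Fact p.Prime := ⟨r.prime⟩
  by_cases h : V ⊓ N = ⊥
  · exfalso
    let _ : MulAction V N :=
      { smul v n := ⟨v * n * v⁻¹, hN.conj _ (hM (r.le v.2)) _ n.2⟩
        one_smul n := Subtype.ext (by show (1 : Perm Ω) * n * 1⁻¹ = n; simp)
        mul_smul v w n := Subtype.ext (by
          show (v.1 * w.1) * n * (v.1 * w.1)⁻¹ = v.1 * (w.1 * n * w.1⁻¹) * v.1⁻¹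
          group) }
    have h1 := r.pgroup.card_modEq_card_fixedPoints N
    have h2 : fixedPoints V N = {1} := Set.eq_singleton_iff_unique_mem.2 ⟨fun v => Subtype.ext (by
      show (v : Perm Ω) * 1 * v⁻¹ = 1; simp), fun n hn => Subtype.ext (mem_bot.1 (h ▸ ⟨r.cen fun v hv =>
        (mul_inv_eq_iff_eq_mul.1 (congrArg Subtype.val (hn ⟨v, hv⟩))).symm, n.2⟩))⟩
    have : IsPretransitive N Ω := ⟨fun a b => by
      obtain ⟨n, hn, e⟩ := trans_of_nor (prim_of_le hM r.prim) hN h0 a b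
      exact ⟨⟨n, hn⟩, e⟩⟩
    have h3 := (stabilizer N x).index_dvd_card
    rw [index_stabilizer_of_transitive, Nat.card_eq_fintype_card (α := Ω), r.card] at h3
    rw [h2, Nat.card_coe_set_eq, Set.ncard_singleton] at h1
    exact r.prime.one_lt.ne' (Nat.dvd_one.1 ((h1.dvd_iff dvd_rfl).1 ((dvd_pow_self p (Nat.ne_of_gt r.pos)).trans h3)))
  · exact (le_of_trans inf_le_left (trans_of_nor r.prim ⟨inf_le_left.trans r.le, fun g hg v hv =>
      ⟨r.conj g hg v hv.1, hN.conj g (hM hg) v hv.2⟩⟩ h) r.reg x).trans inf_le_right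

theorem eq_inf (s : Sec X H) (hM : M ∈ Ov X H) (h : ¬ Nor M V) : H = M ⊓ normalizer (V : Set (Perm Ω)) :=
  ((s.eq_or_eq hM (le_inf hM.2 r.toNor.le_normalizer) inf_le_left).resolve_right fun e =>
    h (Nor.of_le (r.le.trans hM.2) (inf_eq_left.1 e))).symm

end Rg

/-- the overgroups of product type -/
def Prod (M V : Subgroup (Perm Ω)) : Prop :=
  ∃ (N : Subgroup M) (_ : N.Normal) (m : ℕ) (T : Fin m → Subgroup M) (e : N ≃* (∀ i, T i)), 2 ≤ m ∧ Fac N m T e ∧ N ≠ ⊥ ∧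
    V ≤ N.map M.subtype ∧ ∀ ω : Ω, ∀ n : N, (n : M) ∈ stabilizer M ω ↔ ∀ i, ((e n i : T i) : M) ∈ stabilizer M ω

theorem Rg.cases {p d : ℕ} (r : Rg H V p d) (hM : H ≤ M) : Nor M V ∨ (∃ S, Soc M S ∧ V ≤ S) ∨ Prod M V := by
  have hp := prim_of_le hM r.prim
  have h0 : ∀ N : Subgroup M, N ≠ ⊥ → N.map M.subtype ≠ ⊥ := fun N h h' => h ((map_eq_bot_iff_of_injective _ M.subtype_injective).1 h')
  rcases ppow_socle r.prime r.pos (Nat.card_eq_fintype_card.trans r.card) hp with ⟨N, _, h1, h2, -⟩ |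
    ⟨N, _, m, T, e, h1, h2, -, h3, -, h4, -⟩
  · have h4 : N ≠ ⊥ := by
      rintro rfl
      obtain ⟨v, hv⟩ := Subgroup.ne_bot_iff_exists_ne_one.1 r.ne
      obtain ⟨x⟩ := r.nonempty
      obtain ⟨⟨_, rfl⟩, e⟩ := h2.exists_smul_eq x (v.1 x)
      exact hv (Subtype.ext (r.reg _ v.2 x e.symm))
    have h5 := r.le_nor hM (Nor.of_normal N) (h0 N h4)
    have h3 : N.map M.subtype ≤ V := by
      rintro _ ⟨n, hn, rfl⟩
      refine r.cen fun v hv => ?_
      obtain ⟨n', hn', rfl⟩ := h5 hv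
      exact congrArg Subtype.val (h1 n hn n' hn').eq
    exact .inl (le_antisymm h3 h5 ▸ Nor.of_normal N)
  · have h5 := r.le_nor hM (Nor.of_normal N) (h0 N h2)
    refine .inr ((Nat.lt_or_ge m 2).imp (fun hm => ⟨_, ?_, h5⟩) fun hm => ⟨N, ‹_›, m, T, e, hm, h1, h2, h5, h4⟩)
    obtain rfl : m = 1 := by have := h1.pos; omega
    have := h1.simple 0
    let f : N.map M.subtype ≃* T 0 := ((N.equivMapOfInjective _ M.subtype_injective).symm.trans e).trans (MulEquiv.piUnique _)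
    refine ⟨Nor.of_normal N, f.isSimpleGroup, fun h => ?_, fun g hg h => ?_⟩
    · obtain ⟨a, b, hab⟩ := h1.nonab 0
      exact hab (f.symm.injective (by rw [map_mul, map_mul, h.is_comm.comm]))
    · have h6 : (⟨g, hg⟩ : M) ∈ centralizer (N : Set M) := fun n hn => Subtype.ext (h _ ⟨n, hn, rfl⟩).symm
      rw [h3, mem_bot] at h6
      exact congrArg Subtype.val h6

end Cfsg.Agent.SM.Af
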