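import Mathlib.Algebra.Ring.GeomSum
import Mathlib.Data.Nat.Prime.Basic
import Mathlib.Tactic

/-!
# SM (S3570), prime degree: the arithmetic (helper45)
-/

set_option autoImplicit false

namespace Cfsg.Agent.SM.Af

open Finset

/-- the parameters of the linear group -/
def ty (p k : ℕ) : ℕ × ℕ :=
  if p = 7 then (2, 3) else if p = 13 then (3, 3) else if p = 73 then (8, 3) else
    if p = 31 then (if k % 5 = 0 then (2, 5) else (5, 3)) else (p - 1, 2)

/-- a test which all primes pass -/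
def pr (n : ℕ) : Bool := decide (∀ d : ℕ, d < 110 → n % d = 0 → d = 1 ∨ d = n)

theorem pr_of {n : ℕ} (h : n = 1 ∨ n.Prime) : pr n = true := decide_eq_true fun d _ hd => by
  rcases h with rfl | h
  · exact .inl (Nat.dvd_one.1 (Nat.dvd_of_mod_eq_zero hd))
  · exact (Nat.dvd_prime h).1 (Nat.dvd_of_mod_eq_zero hd)

/-- the number of points -/
def gs (q e : ℕ) : ℕ := ∑ i ∈ range e, q ^ i

set_option synthInstance.maxSize 1000 in
/-- the conclusion -/
def ok (Q f e p : ℕ) : Bool := decide (∀ j : ℕ, j < 13 → ∀ c : ℕ, c < 3 → (2 * f % j = 0 ∧ 1 ≤ c ∧ (p - 1) % (c * (e * j)) = 0 ∧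
  pr ((p - 1) / (c * (e * j))) = true) → c * ((p - 1) / (c * (e * j))) ≤ 10 ∧ p ≠ 11 ∧ p ≠ 23 ∧ (Q, e) = ty p (e * j))

set_option synthInstance.maxSize 1000 in
theorem chk : ∀ q < 73, ∀ f < 7, ∀ e < 14, ((q ^ f) ^ (e / 2) ≤ 72 ∧ 1 ≤ f ∧ 2 ≤ e ∧ 2 ≤ q ∧ pr q = true ∧
    pr (gs (q ^ f) e) = true ∧ 5 ≤ gs (q ^ f) e) → ok (q ^ f) f e (gs (q ^ f) e) = true := by
  decide +kernel

theorem gs_mul {q : ℕ} (hq : 1 ≤ q) (e : ℕ) : gs q e * (q - 1) + 1 = q ^ e := by
  obtain ⟨t, rfl⟩ : ∃ t, q = t + 1 := ⟨q - 1, by omega⟩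
  exact geom_sum_mul_add t e

theorem gs_eq {q e p : ℕ} (hq : 2 ≤ q) (h : q ^ e - 1 = p * (q - 1)) : p = gs q e :=
  Nat.eq_of_mul_eq_mul_right (show 0 < q - 1 by omega) (by have := gs_mul (q := q) (by omega) e; omega)

theorem gs_two (q m : ℕ) : gs q (2 * m) = gs q m * (q ^ m + 1) := by
  simp only [gs, two_mul, sum_range_add, pow_add, ← mul_sum]
  ring

theorem gs_succ (q e : ℕ) : gs q (e + 1) = q * gs q e + 1 := geom_sum_succ

theorem le_gs (q e : ℕ) : q ^ e ≤ gs q (e + 1) := single_le_sum (f := fun i => q ^ i) (fun _ _ => Nat.zero_le _) (self_mem_range_succ e)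

theorem le_six {u : ℕ} (h : 2 ^ u ≤ 16 * u) : u ≤ 6 := by
  by_contra! h1
  have : ∀ v, 16 * (v + 7) < 2 ^ (v + 7) := fun v => by
    induction v with
    | zero => norm_num
    | succ v ih => rw [show v + 1 + 7 = v + 7 + 1 by ring, pow_succ]; omega
  have := this (u - 7)
  rw [show u - 7 + 7 = u by omega] at this
  omega

set_option synthInstance.maxSize 1000 in
theorem num {p q f e j c r : ℕ} (hp : p.Prime) (h5 : 5 ≤ p) (hq : q.Prime) (hf : 1 ≤ f) (he : 2 ≤ e)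
    (h : (q ^ f) ^ e - 1 = p * (q ^ f - 1)) (hj : j ∣ 2 * f) (hc : c = 1 ∨ c = 2) (hr : r = 1 ∨ r.Prime)
    (hk : p - 1 = c * r * (e * j)) : c * r ≤ 10 ∧ p ≠ 11 ∧ p ≠ 23 ∧ (q ^ f, e) = ty p (e * j) := by
  have h1 : 2 ^ f ≤ q ^ f := Nat.pow_le_pow_left hq.two_le f
  have h2 : q ≤ q ^ f := Nat.le_self_pow (by omega) q
  have h3 := gs_eq (hq.two_le.trans h2) h
  have h4 : j ≤ 2 * f := Nat.le_of_dvd (by omega) hj
  have h6 : 0 < c * (e * j) := Nat.pos_of_ne_zero fun h0 => by rw [mul_right_comm, h0] at hk; omega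
  have hr0 : 0 < r := hr.elim (fun h => h ▸ one_pos) Nat.Prime.pos
  have h7 : (q ^ f) ^ (e / 2) ≤ 72 ∧ e / 2 * f ≤ 6 := by
    rcases Nat.even_or_odd' e with ⟨m, rfl | rfl⟩
    · rw [gs_two] at h3
      have h8 : m = 1 := by
        by_contra h8
        obtain ⟨m, rfl⟩ : ∃ k, m = k + 2 := ⟨m - 2, by omega⟩
        have h9 : q ^ f ≤ gs (q ^ f) (m + 2) := (Nat.le_self_pow (n := m + 1) (by omega) (q ^ f)).trans (le_gs (q ^ f) (m + 1))
        have h10 : 0 < (q ^ f) ^ (m + 2) := pow_pos (pow_pos hq.pos f) _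
        rcases (Nat.prime_mul_iff.1 (h3 ▸ hp)) with h | h <;> have := hq.two_le <;> omega
      subst h8
      simp only [gs, range_one, sum_singleton, pow_zero, pow_one, one_mul, mul_one] at h3 hk
      have h8 : q ^ f = c * r * (2 * j) := by omega
      obtain rfl : 2 = q := (Nat.prime_dvd_prime_iff_eq Nat.prime_two hq).1 (Nat.prime_two.dvd_of_dvd_pow
        (n := f) ⟨c * r * j, by rw [h8]; ring⟩)
      have h9 : r ≤ 2 := hr.elim (by omega) fun hr => Nat.le_of_dvd two_pos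
        (hr.dvd_of_dvd_pow (n := f) ⟨c * (2 * j), by rw [h8]; ring⟩)
      have h10 : f ≤ 6 := le_six (h8.trans_le (by
        have : c * r ≤ 2 * 2 := Nat.mul_le_mul (by omega) h9
        nlinarith))
      refine ⟨?_, by omega⟩
      rw [show 2 * 1 / 2 = 1 from rfl, pow_one]
      exact (Nat.pow_le_pow_right two_pos h10).trans (by norm_num)
    · rw [gs_succ, gs_two, ← mul_assoc] at h3
      rw [show (2 * m + 1) / 2 = m by omega]
      have h8 : (q ^ f) ^ m ≤ q ^ f * gs (q ^ f) m := by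
        obtain ⟨m, rfl⟩ : ∃ k, m = k + 1 := ⟨m - 1, by omega⟩
        rw [pow_succ']
        exact Nat.mul_le_mul_left _ (le_gs _ m)
      have h9 : q ^ f * gs (q ^ f) m * ((q ^ f) ^ m + 1) = r * (c * ((2 * m + 1) * j)) := by
        rw [mul_left_comm, ← mul_assoc c, ← hk, h3, Nat.add_sub_cancel]
      have h10 : (q ^ f) ^ m ≤ c * ((2 * m + 1) * j) := by
        have h11 : r ∣ q ^ f * gs (q ^ f) m ∨ r ∣ (q ^ f) ^ m + 1 :=
          hr.elim (fun h => .inl (h ▸ one_dvd _)) fun hr => hr.dvd_mul.1 (Dvd.intro _ h9.symm)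
        rcases h11 with ⟨u, hu⟩ | ⟨u, hu⟩
        · rw [hu, mul_assoc] at h9
          exact (Nat.le_succ _).trans (Nat.le_of_dvd h6 (Dvd.intro_left u (Nat.eq_of_mul_eq_mul_left hr0 h9)))
        · rw [hu, mul_left_comm] at h9
          exact h8.trans (Nat.le_of_dvd h6 (Dvd.intro u (Nat.eq_of_mul_eq_mul_left hr0 h9)))
      have h11 : c * ((2 * m + 1) * j) ≤ 12 * (m * f) :=
        (Nat.mul_le_mul (show c ≤ 2 by omega) (Nat.mul_le_mul (show 2 * m + 1 ≤ 3 * m by omega) h4)).trans_eq (by ring)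
      have h12 : m * f ≤ 6 := le_six (by
        have := Nat.pow_le_pow_left h1 m
        rw [← pow_mul, mul_comm f] at this
        omega)
      exact ⟨by omega, h12⟩
  have h8 : 1 ≤ e / 2 := by omega
  have h9 : f ≤ 6 := (Nat.le_mul_of_pos_left f h8).trans h7.2
  have h10 : e / 2 ≤ 6 := (Nat.le_mul_of_pos_right _ hf).trans h7.2
  have h11 : q ≤ 72 := h2.trans ((Nat.le_self_pow (by omega) _).trans h7.1)
  have h12 : (p - 1) / (c * (e * j)) = r := by rw [hk, mul_right_comm, Nat.mul_div_cancel_left _ h6]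
  have h13 := of_decide_eq_true (chk q (by omega) f (by omega) e (by omega) ⟨h7.1, hf, he, hq.two_le, pr_of (.inr hq),
    h3 ▸ pr_of (.inr hp), h3 ▸ h5⟩) j (by omega) c (by omega)
  rw [← h3, h12] at h13
  exact h13 ⟨Nat.mod_eq_zero_of_dvd hj, by omega, by rw [hk, mul_right_comm, Nat.mul_mod_right], pr_of hr⟩

end Cfsg.Agent.SM.Af
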