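import Cfsg.Agent.SM.Af.Base
import Cfsg.Agent.SM.Af.Num
import Cfsg.Agent.S3608
import Cfsg.Agent.S3610
import Cfsg.Agent.S0989
import Cfsg.Agent.H480.Reduce
import Cfsg.Agent.H163.PG.Ord
import Cfsg.Agent.H498.Ab.RowL
import Cfsg.Agent.H363.PslCard
import Cfsg.Agent.H816.OutEmb
import Cfsg.Agent.TwoGenCore.IsoMEleven
import Cfsg.Agent.SporadicA.T23

/-!
# SM (S3570), prime degree: at most ten almost simple overgroups (helper45)
-/

set_option autoImplicit false
set_option linter.unusedSectionVars false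
set_option linter.unusedVariables false

namespace Cfsg.Agent.SM.Af

open Equiv Subgroup MulAction Cfsg.Agent.H893 Pointwise

theorem card_rel {G : Type*} [Group G] (A B : Subgroup G) : Nat.card ↥(A ⊓ B) * A.relIndex B = Nat.card B := by
  rw [relIndex, ← inf_subgroupOf_right, ← card_mul_index ((A ⊓ B).subgroupOf B),
    Nat.card_congr (subgroupOfEquivOfLe inf_le_right).toEquiv]

theorem mem_cj {G : Type*} [Group G] {S : Subgroup G} {g x : G} : x ∈ MulAut.conj g • S ↔ g⁻¹ * x * g ∈ S := by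
  rw [mem_pointwise_smul_iff_inv_smul_mem, ← map_inv, MulAut.smul_def, MulAut.conj_apply, inv_inv]

theorem cj_eq_iff {G : Type*} [Group G] {S : Subgroup G} {g : G} : MulAut.conj g • S = S ↔ g ∈ normalizer (S : Set G) :=
  mem_normalizer_iff_map_conj_eq.symm

theorem gcd_dvd_gs (q e : ℕ) (hq : 1 ≤ q) : Nat.gcd e (q - 1) ∣ gs q e := by
  rw [← ZMod.natCast_eq_zero_iff, gs]
  have h : (q : ZMod (Nat.gcd e (q - 1))) = 1 := by
    have := (ZMod.natCast_eq_zero_iff _ _).2 (Nat.gcd_dvd_right e (q - 1))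
    rwa [Nat.cast_sub hq, sub_eq_zero, Nat.cast_one] at this
  simpa [h] using (ZMod.natCast_eq_zero_iff _ _).2 (Nat.gcd_dvd_left e (q - 1))

/-- the order of a linear group of prime degree -/
theorem card_psl {F : Type} [Field F] [Fintype F] {p e : ℕ} (hp : p.Prime) (he : 2 ≤ e)
    (h : Fintype.card F ^ e - 1 = p * (Fintype.card F - 1)) : e < p ∧ Nat.gcd e (Fintype.card F - 1) = 1 ∧
      ∃ t, Nat.card (Matrix.ProjectiveSpecialLinearGroup (Fin e) F) = p * t ∧ t ≡ e [MOD p] := by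
  have : Fact p.Prime := ⟨hp⟩
  have h1 := H498.Ab.RowL.card_psl (F := F) (n := e) (by omega)
  have hq : 2 ≤ Fintype.card F := Fintype.one_lt_card
  generalize Fintype.card F = q at *
  obtain ⟨n, rfl⟩ : ∃ n, e = n + 1 := ⟨e - 1, by omega⟩
  have h2 := gs_eq hq h
  have h3 : ∀ d, (q : ZMod p) ^ d = 1 ↔ p ∣ q ^ d - 1 := fun d => by
    rw [← ZMod.natCast_eq_zero_iff, Nat.cast_sub (Nat.one_le_pow _ _ (by omega)), sub_eq_zero, Nat.cast_pow, Nat.cast_one]
  have h4 : IsPrimitiveRoot (q : ZMod p) (n + 1) := IsPrimitiveRoot.mk_of_lt _ (by omega) ((h3 _).2 ⟨_, h⟩) fun d h4 h5 h6 => by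
    have h7 := Nat.one_lt_pow h4.ne' hq
    have h8 := Nat.le_of_dvd (by omega) ((h3 d).1 h6)
    have h9 := (Nat.pow_le_pow_right (by omega : 0 < q) (by omega : d ≤ n)).trans (le_gs q n)
    omega
  have h5 : n + 1 < p := by
    have := Nat.le_of_dvd (by have := hp.two_le; omega)
      (h4.dvd_of_pow_eq_one _ (ZMod.pow_card_sub_one_eq_one (h4.ne_zero (by omega))))
    have := hp.two_le
    omega
  have h6 : Nat.gcd (n + 1) (q - 1) = 1 := ((Nat.dvd_prime hp).1 (h2 ▸ gcd_dvd_gs q _ (by omega))).resolve_right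
    ((Nat.gcd_le_left _ (by omega)).trans_lt h5).ne
  refine ⟨h5, h6, ∏ i ∈ Finset.range n, (q ^ (n + 1) - q ^ (i + 1)), Nat.eq_of_mul_eq_mul_left (show 0 < q - 1 by omega) ?_, ?_⟩
  · rw [h6, mul_one, H498.Ab.RowL.P, Finset.prod_range_succ', pow_zero, h] at h1
    rw [h1]; ring
  · rw [← ZMod.natCast_eq_natCast_iff, Nat.cast_prod, Nat.cast_succ, ← h4.prod_one_sub_pow_eq_order]
    refine Finset.prod_congr rfl fun i hi => ?_
    rw [Nat.cast_sub (Nat.pow_le_pow_right (by omega) (by have := Finset.mem_range.1 hi; omega)), Nat.cast_pow, Nat.cast_pow,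
      h4.pow_eq_one]

variable {Ω : Type} [Fintype Ω] [DecidableEq Ω] {X H M S V : Subgroup (Perm Ω)}

theorem Soc.not_nor (hS : Soc M S) {p d : ℕ} (r : Rg H V p d) (hV : V ≤ S) : ¬ Nor M V := fun h => by
  have := hS.simple
  rcases (h.mono hV hS.le).normal.eq_bot_or_eq_top with e | e
  · exact r.ne (le_bot_iff.1 ((le_inf le_rfl hV).trans (subgroupOf_eq_bot.1 e).le_bot))
  · exact hS.nab ⟨⟨fun a b => Subtype.ext (r.comm _ (subgroupOf_eq_top.1 e a.2) _ (subgroupOf_eq_top.1 e b.2))⟩⟩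

/-- the list of Guralnick -/
theorem Rg.list {p d : ℕ} (r : Rg H V p d) (s : Sec X H) (hM : M ∈ Ov X H) (hS : Soc M S) (hV : V ≤ S) (x : Ω) :
    (stabilizer S x).index = p ^ d ∧
    ((∃ (e : ℕ) (F : Type) (_ : Field F) (_ : Fintype F), 2 ≤ e ∧ Fintype.card F ^ e - 1 = p ^ d * (Fintype.card F - 1) ∧
      Nonempty (S ≃* Matrix.ProjectiveSpecialLinearGroup (Fin e) F)) ∨
    (p ^ d = 11 ∧ (Nonempty (S ≃* Matrix.ProjectiveSpecialLinearGroup (Fin 2) (ZMod 11)) ∨ IsM11 S)) ∨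
    (p ^ d = 23 ∧ IsM23 S) ∨ (p ^ d = 27 ∧ Nonempty (S ≃* PSp 2 (ZMod 3)))) := by
  have : IsPretransitive S Ω := ⟨fun a b => by
    obtain ⟨v, hv, e⟩ := r.trans a b
    exact ⟨⟨v, hV hv⟩, e⟩⟩
  have h1 : (stabilizer S x).index = p ^ d := by rw [index_stabilizer_of_transitive, Nat.card_eq_fintype_card, r.card]
  refine ⟨h1, (S3608.result hS.simple hS.nab _ p d r.prime r.pos h1).resolve_left fun ⟨_, ⟨e⟩⟩ => s.not_alt_le hM ?_⟩
  have : Nontrivial Ω := Fintype.one_lt_card_iff_nontrivial.1 (by have := s.five; omega)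
  have : Nontrivial (Fin (p ^ d)) := Fin.nontrivial_iff_two_le.2 (by omega)
  have h2 := S.card_mul_index
  have h3 := (alternatingGroup (Fin (p ^ d))).card_mul_index
  rw [alternatingGroup.index_eq_two, Nat.card_perm, Nat.card_eq_fintype_card (α := Fin _), Fintype.card_fin,
    ← Nat.card_congr e.toEquiv] at h3
  rw [Nat.card_perm, Nat.card_eq_fintype_card (α := Ω), r.card, ← h3] at h2
  exact Perm.eq_alternatingGroup_of_index_eq_two (Nat.eq_of_mul_eq_mul_left Nat.card_pos h2) ▸ hS.le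

namespace Rg

variable {p : ℕ} (r : Rg H V p 1)
include r

theorem exists_syl {K P : Subgroup (Perm Ω)} (hP : P ≤ K) (hc : Nat.card P = p) :
    ∃ Q : Sylow p K, (Q : Subgroup K) = P.subgroupOf K := by
  have : Fact p.Prime := ⟨r.prime⟩
  have h1 : Nat.card (P.subgroupOf K) = p ^ 1 := by rw [Nat.card_congr (subgroupOfEquivOfLe hP).toEquiv, hc, pow_one]
  refine ⟨(IsPGroup.of_card h1).toSylow fun h => ?_, rfl⟩
  have h2 := K.card_subgroup_dvd_card
  rw [← (P.subgroupOf K).card_mul_index, h1, Nat.card_perm, Nat.card_eq_fintype_card, r.card, pow_one,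
    ← Nat.mul_factorial_pred r.prime.ne_zero] at h2
  have h3 := r.prime.dvd_factorial.1 (h.trans (Nat.dvd_of_mul_dvd_mul_left r.prime.pos h2))
  have := r.prime.pos
  omega

theorem cardV' : Nat.card V = p := r.cardV.trans (pow_one p)

theorem card_norm : Nat.card (normalizer (V : Set (Perm Ω))) = p * (p - 1) := by
  have : Fact p.Prime := ⟨r.prime⟩
  obtain ⟨Q, hQ⟩ := r.exists_syl le_top r.cardV'
  have h := S0989.result p (.inl (r.card.trans (pow_one p))) (Q.mapSurjective (f := (⊤ : Subgroup (Perm Ω)).subtype)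
    fun x => ⟨⟨x, trivial⟩, rfl⟩)
  have e : (Q : Subgroup (⊤ : Subgroup (Perm Ω))).map (⊤ : Subgroup (Perm Ω)).subtype = V := by
    rw [hQ, map_subgroupOf_eq_of_le le_top]
  exact e ▸ h

theorem rel_mod {K : Subgroup (Perm Ω)} (hK : V ≤ K) : (normalizer (V : Set (Perm Ω))).relIndex K ≡ 1 [MOD p] := by
  have : Fact p.Prime := ⟨r.prime⟩
  obtain ⟨Q, hQ⟩ := r.exists_syl hK r.cardV'
  rw [relIndex, subgroupOf_normalizer_eq hK, ← hQ]
  exact Q.card_eq_index_normalizer ▸ card_sylow_modEq_one p K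

theorem exists_conj {K P : Subgroup (Perm Ω)} (hK : V ≤ K) (hP : P ≤ K) (hc : Nat.card P = p) :
    ∃ t ∈ K, MulAut.conj t • P = V := by
  have : Fact p.Prime := ⟨r.prime⟩
  obtain ⟨Q, hQ⟩ := r.exists_syl hK r.cardV'
  obtain ⟨Q', hQ'⟩ := r.exists_syl hP hc
  obtain ⟨t, ht⟩ := exists_smul_eq K Q' Q
  have h := congrArg (fun Q : Sylow p K => (Q : Subgroup K).map K.subtype) ht
  simp only [Sylow.coe_subgroup_smul, hQ, hQ', conj_smul_subgroupOf hP] at h
  rw [map_subgroupOf_eq_of_le hK, map_subgroupOf_eq_of_le (conj_smul_le_of_le hP t)] at h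
  exact ⟨t, t.2, h⟩

/-- the index of `H` in the affine group -/
theorem idx (s : Sec X H) : ∃ c t, (c = 1 ∨ c = 2) ∧ (t = 1 ∨ t.Prime) ∧ H.relIndex (normalizer (V : Set (Perm Ω))) = c * t := by
  have : Fact p.Prime := ⟨r.prime⟩
  have : Nontrivial Ω := Fintype.one_lt_card_iff_nontrivial.1 (by have := s.five; omega)
  set A := normalizer (V : Set (Perm Ω))
  have h1 : H ≤ X ⊓ A := le_inf s.lt.le r.toNor.le_normalizer
  refine ⟨X.relIndex A, H.relIndex (X ⊓ A), ?_, ?_, by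
    rw [← relIndex_mul_relIndex H (X ⊓ A) A h1 inf_le_right, inf_relIndex_right, mul_comm]⟩
  · rcases eq_alt_or_top s.five s.alt with rfl | rfl
    · exact (Nat.dvd_prime Nat.prime_two).1 (alternatingGroup.index_eq_two (α := Ω) ▸ relIndex_dvd_index_of_normal _ _)
    · exact .inl (relIndex_top_left _)
  · refine h1.eq_or_lt.imp (fun h => relIndex_eq_one.2 h.ge) fun h => ?_
    obtain ⟨M, hM, -⟩ := Sec.exists_ov le_rfl s.lt
    have h2 := s.mem_ov h (lt_of_le_of_ne inf_le_left fun e =>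
      s.not_alt_le_normalizer hM (r.le.trans hM.2) r.ne (s.alt.trans (inf_eq_left.1 e)))
    have : IsCyclic V := isCyclic_of_prime_card r.cardV'
    have : (H.subgroupOf (X ⊓ A)).Normal := ⟨fun h hh g => by
      let a : A := ⟨g, g.2.2⟩
      let b : A := ⟨h, h.2.2⟩
      have h3 : a * b * a⁻¹ * b⁻¹ ∈ V.normalizerMonoidHom.ker := by
        rw [MonoidHom.mem_ker, ← (IsCyclic.mulAutMulEquiv V).map_eq_one_iff]
        simp only [map_mul, map_inv, mul_inv_cancel_comm, mul_inv_cancel]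
      rw [normalizerMonoidHom_ker] at h3
      have h4 := H.mul_mem (r.le (r.cen fun v hv => (h3 v hv).symm)) hh
      rw [mem_subgroupOf]
      simpa [a, b] using h4⟩
    refine H480.index_prime_of_coatom ⟨fun e => h.not_ge (subgroupOf_eq_top.1 e), fun K hK => ?_⟩
    rcases s.eq_or_eq h2 (K := K.map (X ⊓ A).subtype) (map_subgroupOf_eq_of_le h1 ▸ map_mono hK.le) (map_subtype_le K) with e | e
    · exact absurd (fun (x : ↥(X ⊓ A)) hx => (e ▸ mem_map_of_mem _ hx : x.1 ∈ H)) hK.not_ge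
    · exact map_injective (X ⊓ A).subtype_injective (by rw [e, ← MonoidHom.range_eq_map, range_subtype])

/-- the overgroups with isomorphic socles -/
theorem count (s : Sec X H) (Y : Type) [Group Y] : {M | M ∈ Ov X H ∧ ∃ S, Soc M S ∧ V ≤ S ∧ Nonempty (S ≃* Y)}.ncard ≤
    H.relIndex (normalizer (V : Set (Perm Ω))) := by
  rcases Set.eq_empty_or_nonempty {M | M ∈ Ov X H ∧ ∃ S, Soc M S ∧ V ≤ S ∧ Nonempty (S ≃* Y)} with h | ⟨M₀, hM₀, S₀, h1, h2, ⟨e₀⟩⟩
  · rw [h, Set.ncard_empty]; exact Nat.zero_le _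
  set A := normalizer (V : Set (Perm Ω))
  let f : A ⧸ H.subgroupOf A → Subgroup (Perm Ω) := fun q => X ⊓ normalizer ((MulAut.conj (q.out : Perm Ω) • S₀ : Subgroup _) : Set _)
  refine (Set.ncard_le_ncard (t := Set.range f) ?_).trans (Finite.card_range_le f)
  rintro M ⟨hM, S, h3, h4, ⟨e⟩⟩
  have hc : Nat.card Ω = p ^ 1 := Nat.card_eq_fintype_card.trans r.card
  have hp : ∀ K : Subgroup (Perm Ω), V ≤ K → IsPreprimitive K Ω := fun K hK =>
    have : IsPretransitive K Ω := ⟨fun a b => by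
      obtain ⟨v, hv, e⟩ := r.trans a b
      exact ⟨⟨v, hK hv⟩, e⟩⟩
    .of_prime_card (by rw [hc, pow_one]; exact r.prime)
  let ε : S₀ ≃* S := e₀.trans e.symm
  obtain ⟨σ, g, hg⟩ := @S3610.result S₀ Ω Ω _ _ _ _ _ (MulAction.compHom Ω ε.toMonoidHom)
    (@FaithfulSMul.mk _ _ (_) fun h => ε.injective (Subtype.ext (Equiv.ext h))) _ p 1 r.prime le_rfl hc hc (hp _ h2)
    (@IsPreprimitive.of_prime_card _ _ _ (MulAction.compHom Ω ε.toMonoidHom) (@IsPretransitive.mk _ _ (_) fun a b => by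
      obtain ⟨v, hv, e⟩ := r.trans a b
      exact ⟨ε.symm ⟨v, h4 hv⟩, (congrArg (fun z : S => z.1 a) (ε.apply_symm_apply _)).trans e⟩)
      (by rw [hc, pow_one]; exact r.prime))
  have h5 : ∀ x : S₀, (g : Perm Ω) * x * (g : Perm Ω)⁻¹ = ε (σ x) := fun x =>
    mul_inv_eq_of_eq_mul (Equiv.ext (hg x))
  have h6 : MulAut.conj (g : Perm Ω) • S₀ = S := le_antisymm (by
    rintro _ ⟨x, hx, rfl⟩
    show (g : Perm Ω) * x * (g : Perm Ω)⁻¹ ∈ S
    rw [h5 ⟨x, hx⟩]
    exact (ε (σ ⟨x, hx⟩)).2) fun y hy => ⟨_, (σ.symm (ε.symm ⟨y, hy⟩)).2, (h5 _).trans (by simp)⟩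
  obtain ⟨t, ht, h7⟩ := r.exists_conj h4 (h6 ▸ pointwise_smul_le_pointwise_smul_iff.2 h2)
    ((Nat.card_congr (equivSMul _ V).toEquiv).symm.trans r.cardV')
  rw [← mul_smul, ← map_mul, cj_eq_iff] at h7
  obtain ⟨h, hh⟩ := QuotientGroup.mk_out_eq_mul (H.subgroupOf A) ⟨_, h7⟩
  refine ⟨QuotientGroup.mk ⟨_, h7⟩, ?_⟩
  simp only [f, hh, Subgroup.coe_mul, map_mul, mul_smul]
  rw [cj_eq_iff.2 (h1.toNor.le_normalizer (hM₀.2 h.2) : ((h : A) : Perm Ω) ∈ _), h6, conj_smul_eq_self_of_mem ht, ← s.eq_normalizer hM h3.toNor h3.ne]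

/-- the parameters of an almost simple overgroup -/
theorem param (s : Sec X H) (hM : M ∈ Ov X H) (hS : Soc M S) (hV : V ≤ S) {t e : ℕ} (ht : Nat.card S = p * t)
    (he : t ≡ e [MOD p]) (hlt : e < p) : V.relIndex H = e * S.relIndex M ∧
      p - 1 = H.relIndex (normalizer (V : Set (Perm Ω))) * V.relIndex H := by
  have hp := r.prime
  have h1 := r.eq_inf s hM (Soc.not_nor hS r hV)
  set A := normalizer (V : Set (Perm Ω))
  have h2 : ∀ K, V ≤ K → Nat.card K = p * V.relIndex K := fun K hK => by rw [← card_rel V K, inf_eq_left.2 hK, r.cardV']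
  have h3 : S ⊓ H = A ⊓ S := by rw [h1, ← inf_assoc, inf_eq_left.2 hS.le, inf_comm]
  have h4 : V ≤ A ⊓ S := le_inf le_normalizer hV
  have h5 : V.relIndex A = p - 1 := Nat.eq_of_mul_eq_mul_left hp.pos ((h2 A le_normalizer).symm.trans r.card_norm)
  have h6 : V.relIndex (A ⊓ S) = e := by
    have h6 := card_rel A S
    rw [h2 _ h4, ht, mul_assoc] at h6
    have h7 := (r.rel_mod hV).mul_left (V.relIndex (A ⊓ S))
    rw [Nat.eq_of_mul_eq_mul_left hp.pos h6, mul_one] at h7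
    refine Nat.ModEq.eq_of_lt_of_lt (h7.symm.trans he) ?_ hlt
    have := Nat.le_of_dvd (by have := hp.two_le; omega)
      (Dvd.intro _ ((relIndex_mul_relIndex V (A ⊓ S) A h4 inf_le_left).trans h5))
    have := hp.pos
    omega
  have h7 : S.relIndex H = S.relIndex M := by
    have := hS.toNor.normal
    have h7 : H ⊔ S = M := (s.le_or_sup hM hS.le).resolve_left fun h =>
      Soc.not_nor (H := H) ⟨hS.toNor.mono h hM.2, hS.simple, hS.nab, fun g hg => hS.cen g (hM.2 hg)⟩ r hV r.toNor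
    rw [← relIndex_subgroupOf hM.2, ← relIndex_sup_right, ← subgroupOf_sup hM.2 hS.le, h7, subgroupOf_self, relIndex_top_right]
    rfl
  refine ⟨?_, by rw [← h5, ← relIndex_mul_relIndex V H A r.le r.toNor.le_normalizer, mul_comm]⟩
  rw [← h6, ← h7, ← h3, ← inf_relIndex_right S H, relIndex_mul_relIndex V _ H (h3 ▸ h4) inf_le_right]

theorem kind (s : Sec X H) (hM : M ∈ Ov X H) (hS : Soc M S) (hV : V ≤ S) :
    (p = 11 ∧ H.relIndex (normalizer (V : Set (Perm Ω))) ≤ 2 ∧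
      (Nonempty (S ≃* Matrix.ProjectiveSpecialLinearGroup (Fin 2) (ZMod 11)) ∨ Nonempty (S ≃* Spor.M11))) ∨
    (p = 23 ∧ H.relIndex (normalizer (V : Set (Perm Ω))) ≤ 2 ∧ Nonempty (S ≃* Spor.M23)) ∨
    (p ≠ 11 ∧ p ≠ 23 ∧ H.relIndex (normalizer (V : Set (Perm Ω))) ≤ 10 ∧ ∃ (F : Type) (_ : Field F) (_ : Fintype F),
      Fintype.card F = (ty p (V.relIndex H)).1 ∧
      Nonempty (S ≃* Matrix.ProjectiveSpecialLinearGroup (Fin (ty p (V.relIndex H)).2) F)) := by
  obtain ⟨x⟩ := r.nonempty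
  have h0 : 0 < S.relIndex M := Nat.pos_of_ne_zero index_ne_zero_of_finite
  have h5 : 5 ≤ p := by simpa [r.card] using s.five
  obtain ⟨h1, ⟨e, F, _, _, he, hq, ⟨ε⟩⟩ | ⟨hp, h⟩ | ⟨hp, h⟩ | ⟨hp, -⟩⟩ := r.list s hM hS hV x <;> rw [pow_one] at *
  · obtain ⟨h2, h3, t, h4, h6⟩ := card_psl r.prime he hq
    obtain ⟨h7, h8⟩ := r.param s hM hS hV ((Nat.card_congr ε.toEquiv).trans h4) h6 h2
    obtain ⟨c, t, hc, ht, h9⟩ := r.idx s
    obtain ⟨q, _, ⟨f, hf⟩, hq', hF⟩ := FiniteField.card' F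
    have hZ : center (Matrix.ProjectiveSpecialLinearGroup (Fin e) F) = ⊥ := by
      have := hS.simple
      have := ε.symm.isSimpleGroup
      exact (IsSimpleGroup.eq_bot_or_eq_top_of_normal _ inferInstance).resolve_right fun h => hS.nab ⟨⟨fun a b => ε.injective (by
        rw [map_mul, map_mul]; exact mem_center_iff.1 (h ▸ mem_top _) _)⟩⟩
    have h10 : S.relIndex M ∣ 2 * f := by
      have := hS.toNor.normal
      obtain ⟨o⟩ := H816.OutEmb.out_congr ((subgroupOfEquivOfLe hS.le).trans ε)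
      have h10 := H816.OutEmb.index_dvd (S.subgroupOf M) fun g hg => by
        rw [show g = 1 from Subtype.ext (hS.cen g g.2 fun t ht => congrArg Subtype.val (hg ⟨t, hS.le ht⟩ ht).symm)]
        exact one_mem _
      rw [Nat.card_congr o.toEquiv] at h10
      rcases he.eq_or_lt with rfl | he'
      · have h11 := gs_eq Fintype.one_lt_card hq
        rw [H163.PG.card_out_psl_two hq' hf hF (by simp [gs, Finset.sum_range_succ] at h11; omega) hZ, h3, mul_one] at h10
        exact h10.mul_left 2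
      · rwa [H163.PG.card_out_psl hq' hf hF he' hZ, h3, mul_one] at h10
    rw [h9, h7] at h8
    obtain ⟨h11, h12, h13, h14⟩ := num r.prime h5 hq' hf he (by rw [show q ^ f = Fintype.card F from hF.symm]; exact hq) h10 hc ht h8
    rw [h7, ← h14]
    exact .inr (.inr ⟨h12, h13, h9 ▸ h11, F, _, _, hF, ⟨ε⟩⟩)
  · subst hp
    have h2 : Nat.card S = 11 * 60 ∨ Nat.card S = 11 * 720 := h.imp (fun ⟨e⟩ => by
      have : Fact (Nat.Prime 11) := ⟨by norm_num⟩
      have h1 := ClassicalGeometry.PSL2Basic.card_PSL2_gcd (ZMod 11)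
      rw [← Nat.card_congr e.toEquiv, ZMod.card] at h1
      norm_num at h1
      omega) fun h => h.2
    obtain ⟨h3, h4⟩ := h2.elim (fun h => r.param s hM hS hV (e := 5) h (by decide) (by decide))
      fun h => r.param s hM hS hV (e := 5) h (by decide) (by decide)
    exact .inl ⟨rfl, by rw [h3] at h4; nlinarith, h.imp_right TwoGenCore.IsoMEleven.isoM11⟩
  · subst hp
    obtain ⟨h3, h4⟩ := r.param s hM hS hV (e := 11) (t := 443520) h.2 (by decide) (by decide)
    exact .inr (.inl ⟨rfl, by rw [h3] at h4; nlinarith, SporadicA.T23.isoM23_of_index h _ h1⟩)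
  · exact absurd (hp ▸ r.prime) (by norm_num)

/-- **prime degree** -/
theorem prime_count (s : Sec X H) : {M | M ∈ Ov X H ∧ ∃ S, Soc M S ∧ V ≤ S}.ncard ≤ 10 := by
  rcases Set.eq_empty_or_nonempty {M | M ∈ Ov X H ∧ ∃ S, Soc M S ∧ V ≤ S} with h | ⟨M₀, hM₀, S₀, h1, h2⟩
  · rw [h, Set.ncard_empty]; exact Nat.zero_le _
  rcases r.kind s hM₀ h1 h2 with ⟨hp, h3, -⟩ | ⟨hp, h3, -⟩ | ⟨hp, hp', h3, F, _, _, hF, -⟩
  · refine (Set.ncard_le_ncard ?_).trans ((Set.ncard_union_le _ _).trans ((add_le_add (r.count s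
      (Matrix.ProjectiveSpecialLinearGroup (Fin 2) (ZMod 11))) (r.count s Spor.M11)).trans (by omega)))
    rintro M ⟨hM, S, h4, h5⟩
    rcases r.kind s hM h4 h5 with ⟨-, -, h⟩ | h | h
    · exact h.imp (fun h => ⟨hM, S, h4, h5, h⟩) fun h => ⟨hM, S, h4, h5, h⟩
    · omega
    · exact absurd hp h.1
  · refine (Set.ncard_le_ncard ?_).trans ((r.count s Spor.M23).trans (by omega))
    rintro M ⟨hM, S, h4, h5⟩
    rcases r.kind s hM h4 h5 with h | ⟨-, -, h⟩ | h
    · omega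
    · exact ⟨hM, S, h4, h5, h⟩
    · exact absurd hp h.2.1
  · refine (Set.ncard_le_ncard ?_).trans ((r.count s (Matrix.ProjectiveSpecialLinearGroup (Fin (ty p (V.relIndex H)).2) F)).trans h3)
    rintro M ⟨hM, S, h4, h5⟩
    rcases r.kind s hM h4 h5 with h | h | ⟨-, -, -, F', _, _, hF', ⟨e⟩⟩
    · exact absurd h.1 hp
    · exact absurd h.1 hp'
    · exact ⟨hM, S, h4, h5, (H363.PslCard.psl_of_card (hF'.trans hF.symm)).map e.trans⟩

end Rg

end Cfsg.Agent.SM.Af
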