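import Cfsg.Agent.SM.Af.Prime
import Cfsg.Agent.H893.RegSub
import Cfsg.Agent.H363.PslSpec

/-!
# SM (S3570), the degree is a proper prime power: no almost simple overgroup (helper45)
-/

set_option autoImplicit false
set_option linter.unusedSectionVars false
set_option linter.unusedVariables false

namespace Cfsg.Agent.SM.Af

open Equiv Subgroup MulAction Cfsg.Agent.H893 Pointwise Matrix SpThree

/-- a Weyl element -/
def w0 : Matrix (Fin 2 ⊕ Fin 2) (Fin 2 ⊕ Fin 2) Z := fromBlocks !![1, 0; 0, 0] !![0, 0; 0, 1] !![0, 0; 0, -1] !![1, 0; 0, 0]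

theorem w0_mem : w0 ∈ symplecticGroup (Fin 2) Z := by
  rw [SymplecticGroup.mem_iff]
  decide +kernel

theorem sp_cen : ∀ t a b c : Z, g1 * pm t a b c = pm t a b c * g1 → w0 * pm t a b c = pm t a b c * w0 → pm t a b c = 1 := by
  decide +kernel

theorem sp_fus : ∀ a c : Z, ∃ b a' c' : Z, c' ≠ 0 ∧ w0 * pm 0 0 b 0 * pm 1 a 0 c = pm 0 a' 0 c' * (w0 * pm 0 0 b 0) := by
  decide +kernel

theorem sp_nine : ∀ t a b c : Z, t ≠ 0 → (Finset.univ.filter fun u : Z × Z × Z × Z =>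
    a + u.2.1 + 2 * t * u.2.2.2 + t * t * u.2.2.1 = u.2.1 + a + 2 * u.1 * c + u.1 * u.1 * b ∧
      c + u.2.2.2 + t * u.2.2.1 = u.2.2.2 + c + u.1 * b).card ≤ 9 := by
  decide +kernel

theorem sp_rad : (Finset.univ.filter fun u : Z × Z × Z × Z => u.1 = 0).card = 27 := by
  decide +kernel

theorem sp_cube : ∀ a b c : Z, pm 1 a b c * pm 1 a b c * pm 1 a b c = pm 0 (2 * b) 0 0 := by
  decide +kernel

/-- the elements of the Sylow subgroup -/
def pg (t a b c : Z) : symplecticGroup (Fin 2) Z := ⟨pm t a b c, pm_mem t a b c⟩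

theorem pg_mem (t a b c : Z) : pg t a b c ∈ P := ⟨t, a, b, c, rfl⟩

variable {Ω : Type} [Fintype Ω] [DecidableEq Ω] {X H M S V : Subgroup (Perm Ω)} {p d : ℕ}

theorem Rg.no_sp (r : Rg H V p d) (hp : p ^ d = 27) (f : symplecticGroup (Fin 2) Z →* Perm Ω)
    (hk : ∀ x, f x = 1 → x ∈ center _) (hV : V ≤ P.map f) : False := by
  classical
  have h1 : ∀ x ∈ P, ∀ y ∈ P, f x = f y → x = y := fun x hx y hy h => by
    obtain ⟨t, a, b, c, e⟩ := P.mul_mem (P.inv_mem hx) hy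
    have h2 := mem_center_iff.1 (hk (x⁻¹ * y) (by rw [map_mul, map_inv, h, inv_mul_cancel]))
    exact inv_mul_eq_one.1 (Subtype.ext (e.trans (sp_cen t a b c (e ▸ congrArg Subtype.val (h2 ⟨_, g1_mem⟩))
      (e ▸ congrArg Subtype.val (h2 ⟨_, w0_mem⟩)))))
  let W : Finset (Z × Z × Z × Z) := Finset.univ.filter fun u => f (pg u.1 u.2.1 u.2.2.1 u.2.2.2) ∈ V
  have h2 : W.card = 27 := by
    rw [← hp, ← r.cardV, ← Nat.card_eq_finsetCard]
    refine Nat.card_congr (Equiv.ofBijective (fun u => ⟨_, (Finset.mem_filter.1 u.2).2⟩) ⟨fun u u' h => ?_, fun v => ?_⟩)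
    · obtain ⟨e1, e2, e3, e4⟩ := pm_inj (congrArg Subtype.val (h1 _ (pg_mem ..) _ (pg_mem ..) (congrArg Subtype.val h)))
      exact Subtype.ext (Prod.ext e1 (Prod.ext e2 (Prod.ext e3 e4)))
    · obtain ⟨x, ⟨t, a, b, c, e⟩, hx⟩ := hV v.2
      obtain rfl : x = pg t a b c := Subtype.ext e
      exact ⟨⟨(t, a, b, c), Finset.mem_filter.2 ⟨Finset.mem_univ _, hx ▸ v.2⟩⟩, Subtype.ext hx⟩
  have h3 : W = Finset.univ.filter fun u : Z × Z × Z × Z => u.1 = 0 := by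
    refine Finset.eq_of_subset_of_card_le (fun u hu => Finset.mem_filter.2 ⟨Finset.mem_univ _, by_contra fun h => ?_⟩)
      (sp_rad.trans h2.symm).le
    refine absurd ((Finset.card_le_card fun u' hu' => Finset.mem_filter.2 ⟨Finset.mem_univ _, ?_⟩).trans
      (sp_nine u.1 u.2.1 u.2.2.1 u.2.2.2 h)) (show ¬ W.card ≤ 9 by omega)
    have h4 := r.comm _ (Finset.mem_filter.1 hu).2 _ (Finset.mem_filter.1 hu').2
    rw [← map_mul, ← map_mul] at h4
    have h5 := congrArg Subtype.val (h1 _ (P.mul_mem (pg_mem ..) (pg_mem ..)) _ (P.mul_mem (pg_mem ..) (pg_mem ..)) h4)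
    obtain ⟨-, e2, -, e4⟩ := pm_inj ((pm_mul ..).symm.trans (h5.trans (pm_mul ..)))
    exact ⟨e2, e4⟩
  have h4 : ∀ t a b c, f (pg t a b c) ∈ V ↔ t = 0 := fun t a b c => by
    simpa [W] using Finset.ext_iff.1 h3 (t, a, b, c)
  have h5 : ∀ a b c x, f (pg 0 a b c) x = x → a = 0 ∧ b = 0 ∧ c = 0 := fun a b c x h =>
    (pm_inj ((congrArg Subtype.val (h1 _ (pg_mem ..) _ P.one_mem ((r.reg _ ((h4 ..).2 rfl) x h).trans
      f.map_one.symm))).trans pm_one.symm)).2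
  obtain ⟨x⟩ := r.nonempty
  obtain ⟨v, hv, e⟩ := r.trans (f (pg 1 0 0 0) x) x
  obtain ⟨y, ⟨t, a, b, c, e'⟩, rfl⟩ := hV hv
  obtain rfl : y = pg t a b c := Subtype.ext e'
  obtain rfl := (h4 ..).1 hv
  have h6 : pg 0 a b c * pg 1 0 0 0 = pg 1 a b c := Subtype.ext ((pm_mul ..).trans (by simp [pg]))
  rw [← Perm.mul_apply, ← map_mul, h6] at e
  have h7 : pg 1 a b c * pg 1 a b c * pg 1 a b c = pg 0 (2 * b) 0 0 := Subtype.ext (sp_cube a b c)
  obtain rfl : b = 0 := by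
    have h8 := (h5 _ _ _ x (by rw [← h7, map_mul, map_mul, Perm.mul_apply, Perm.mul_apply, e, e, e])).1
    exact (by decide : ∀ b : Z, 2 * b = 0 → b = 0) b h8
  obtain ⟨b, a', c', hc, h8⟩ := sp_fus a c
  have h9 : ⟨w0, w0_mem⟩ * pg 0 0 b 0 * pg 1 a 0 c = pg 0 a' 0 c' * (⟨w0, w0_mem⟩ * pg 0 0 b 0) := Subtype.ext h8
  exact hc (h5 a' 0 c' (f (⟨w0, w0_mem⟩ * pg 0 0 b 0) x) (by
    rw [← Perm.mul_apply, ← map_mul, ← h9, map_mul _ _ (pg 1 a 0 c), Perm.mul_apply, e])).2.2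

theorem Rg.no_psp (r : Rg H V p d) (hp : p ^ d = 27) (hV : V ≤ S) (e : S ≃* PSp 2 (ZMod 3)) : False := by
  have : Fact (Nat.Prime 3) := ⟨Nat.prime_three⟩
  let f : symplecticGroup (Fin 2) Z →* S := e.symm.toMonoidHom.comp (QuotientGroup.mk' (center _))
  have hf : Function.Surjective f := e.symm.surjective.comp (QuotientGroup.mk'_surjective _)
  have h1 : Nat.card (symplecticGroup (Fin 2) Z) = 81 * 640 := by
    have h1 := S0245.result (F := ZMod 3) (q := 3) (ZMod.card 3) 2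
    simp only [Finset.prod_range_succ, Finset.prod_range_zero] at h1
    norm_num at h1
    omega
  let Q : Sylow 3 (symplecticGroup (Fin 2) Z) := (IsPGroup.of_card (n := 4) card_P).toSylow (by
    have := P.card_mul_index
    rw [card_P, h1] at this
    omega)
  obtain ⟨Q', hQ⟩ := (IsPGroup.of_card (p := 3) (n := 3) ((Nat.card_congr (subgroupOfEquivOfLe hV).toEquiv).trans
    (r.cardV.trans hp))).exists_le_sylow
  obtain ⟨g, rfl⟩ := exists_smul_eq S (Q.mapSurjective hf) Q'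
  refine r.no_sp hp (S.subtype.comp ((MulAut.conj g).toMonoidHom.comp f)) (fun x hx => ?_) fun v hv => ?_
  · have h2 : f x = 1 := (MulAut.conj g).map_eq_one_iff.1 (Subtype.ext hx)
    exact (QuotientGroup.eq_one_iff x).1 (e.symm.map_eq_one_iff.1 h2)
  · obtain ⟨_, ⟨y, hy, rfl⟩, h⟩ := hQ (show (⟨v, hV hv⟩ : S) ∈ V.subgroupOf S from hv)
    exact ⟨y, hy, congrArg Subtype.val h⟩

theorem Rg.no_psl (r : Rg H V p d) (hd : 2 ≤ d) (h5 : 5 ≤ p ^ d) (hV : V ≤ S) {x : Ω} (hx : (stabilizer S x).index = p ^ d)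
    {e : ℕ} {F : Type} [Field F] [Fintype F] (he : 2 ≤ e) (hq : Fintype.card F ^ e - 1 = p ^ d * (Fintype.card F - 1))
    (ε : S ≃* ProjectiveSpecialLinearGroup (Fin e) F) : False := by
  have : Fact p.Prime := ⟨r.prime⟩
  have hp := r.prime
  have h1 := psl_not_dvd hp r.pos _ hx he hq ε
  have h2 : Nat.card (V.subgroupOf S) = p ^ d := (Nat.card_congr (subgroupOfEquivOfLe hV).toEquiv).trans r.cardV
  let Q : Sylow p S := (IsPGroup.of_card h2).toSylow (by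
    have h3 := (V.subgroupOf S).card_mul_index
    rw [← (stabilizer S x).card_mul_index, hx, h2, mul_comm] at h3
    rwa [Nat.eq_of_mul_eq_mul_right (pow_pos hp.pos d) h3])
  obtain ⟨y, hy⟩ := H363.PslSpec.exists_singer (F := F) (n := e) (by omega)
  have h3 : 2 ≤ Fintype.card F := Fintype.one_lt_card
  rw [Nat.card_eq_fintype_card, ← ε.symm.orderOf_eq] at hy
  generalize Fintype.card F = q at *
  have h4 := gs_eq h3 hq
  obtain ⟨k, hk⟩ := h4 ▸ gcd_dvd_gs q e (by omega)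
  have h6 : 0 < Nat.gcd e (q - 1) := Nat.gcd_pos_of_pos_left _ (by omega)
  rw [hq, Nat.mul_div_cancel _ (by omega), hk, Nat.mul_div_cancel_left _ h6] at hy
  obtain ⟨i, -, hi⟩ := (Nat.dvd_prime_pow hp).1 (Dvd.intro_left _ hk.symm)
  obtain ⟨Q', hQ⟩ := (IsPGroup.of_card ((Nat.card_zpowers _).trans (hy.trans hi))).exists_le_sylow
  obtain ⟨g, rfl⟩ := exists_smul_eq S Q Q'
  obtain ⟨z, hz, h7⟩ := hQ (mem_zpowers _)
  have h8 : k ≤ p := Nat.le_of_dvd hp.pos (hy ▸ orderOf_dvd_of_pow_eq_one (by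
    rw [← show MulAut.conj g z = ε.symm y from h7, ← map_pow, show z ^ p = 1 from Subtype.ext (r.pow _ hz), map_one]))
  have h9 : p * p ≤ p ^ d := by rw [← pow_two]; exact Nat.pow_le_pow_right hp.pos hd
  have h10 : p ≤ Nat.gcd e (q - 1) := by nlinarith [hp.pos]
  have h11 : Nat.gcd e (q - 1) ≤ q - 1 := Nat.gcd_le_right _ (by omega)
  have h12 : Nat.gcd e (q - 1) ≤ e := Nat.gcd_le_left _ (by omega)
  rcases he.eq_or_lt with rfl | he
  · nlinarith
  · obtain ⟨e, rfl⟩ : ∃ n, e = n + 1 := ⟨e - 1, by omega⟩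
    have h13 := (Nat.pow_le_pow_right (by omega : 0 < q) (by omega : 2 ≤ e)).trans (le_gs q e)
    obtain ⟨q, rfl⟩ : ∃ n, q = n + 1 := ⟨q - 1, by omega⟩
    rw [Nat.add_sub_cancel] at *
    nlinarith

/-- **no almost simple overgroup** -/
theorem Rg.no_soc (r : Rg H V p d) (hd : 2 ≤ d) (s : Sec X H) (hM : M ∈ Ov X H) (hS : Soc M S) (hV : V ≤ S) : False := by
  obtain ⟨x⟩ := r.nonempty
  obtain ⟨h1, ⟨e, F, _, _, he, hq, ⟨ε⟩⟩ | ⟨hp, -⟩ | ⟨hp, -⟩ | ⟨hp, ⟨e⟩⟩⟩ := r.list s hM hS hV x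
  · exact r.no_psl hd (r.card ▸ s.five) hV h1 he hq ε
  · exact absurd (Nat.Prime.eq_one_of_pow (x := p) (n := d) (hp ▸ by norm_num)) (by omega)
  · exact absurd (Nat.Prime.eq_one_of_pow (x := p) (n := d) (hp ▸ by norm_num)) (by omega)
  · exact r.no_psp hp hV e

end Cfsg.Agent.SM.Af
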